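import Mathlib
import Cfsg.Agent.Helper1.HKK.Defs
import Cfsg.Agent.Helper1.HKK.GroupDefs

/-!
# Alperin's theorem (S3782): definitions (helper71)

Notation of the project: `φ` is an automorphism of a finite group with `φ ^ p = 1` and at most
`p ^ n` fixed points.
-/

set_option autoImplicit false

namespace Cfsg.Agent.Helper71.Alp

universe u

variable {G : Type u} [Group G]

/-- `φ` has at most `m` fixed points. -/
def FixLE (φ : MulAut G) (m : ℕ) : Prop := Nat.card {g : G // φ g = g} ≤ m

/-- `H` is `φ`-invariant (both directions). -/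
def Inv (φ : MulAut G) (H : Subgroup G) : Prop := ∀ x : G, x ∈ H ↔ φ x ∈ H

/-- The restriction of `φ` to an invariant subgroup. -/
def resAut (φ : MulAut G) (H : Subgroup G) (hH : Inv φ H) : MulAut H where
  toFun x := ⟨φ x, (hH x).1 x.2⟩
  invFun y := ⟨φ.symm y, (hH _).2 (by rw [MulEquiv.apply_symm_apply]; exact y.2)⟩
  left_inv x := Subtype.ext (MulEquiv.symm_apply_apply φ x)
  right_inv y := Subtype.ext (MulEquiv.apply_symm_apply φ y)
  map_mul' x y := Subtype.ext (map_mul φ (x : G) (y : G))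

@[simp] theorem resAut_coe (φ : MulAut G) (H : Subgroup G) (hH : Inv φ H) (x : H) :
    ((resAut φ H hH x : H) : G) = φ x := rfl

/-- The subgroup generated by the `k`-th powers of the elements of `H`. -/
def pw (k : ℕ) (H : Subgroup G) : Subgroup G := Subgroup.closure {y | ∃ x ∈ H, y = x ^ k}

/-- `4` for `p = 2`, and `p` otherwise. -/
def bp (p : ℕ) : ℕ := if p = 2 then 4 else p

/-- `N` is powerfully embedded in `G`: `N ⊴ G` and `[N, G] ≤ N^p` (`N^4` if `p = 2`). -/
def PE (p : ℕ) (N : Subgroup G) : Prop := N.Normal ∧ ⁅N, (⊤ : Subgroup G)⁆ ≤ pw (bp p) N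

/-- The derived series of a subgroup, as subgroups of the ambient group. -/
def dser (H : Subgroup G) : ℕ → Subgroup G
  | 0 => H
  | k + 1 => ⁅dser H k, dser H k⁆

@[simp] theorem dser_zero (H : Subgroup G) : dser H 0 = H := rfl

theorem dser_succ (H : Subgroup G) (k : ℕ) : dser H (k + 1) = ⁅dser H k, dser H k⁆ := rfl

/-- Admissible sections `X / Y`: normal, `φ`-invariant, abelian of exponent dividing `bp p`. -/
def Sec (p : ℕ) (φ : MulAut G) (X Y : Subgroup G) : Prop :=
  X.Normal ∧ Y.Normal ∧ Y ≤ X ∧ Inv φ X ∧ Inv φ Y ∧ ⁅X, X⁆ ≤ Y ∧ ∀ x ∈ X, x ^ bp p ∈ Y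

/-- The Higman–Kreknin–Kostrikin class bound `h(p)`. -/
def hc (p : ℕ) : ℕ := Cfsg.Agent.Helper1.HKK.hkkG p (2 ^ (p - 1) - 1)

/-- The exponent `N` with `p^N γ_{h+1}(L) = 0`. -/
def lieExp (p n : ℕ) : ℕ := n * (hc p + 1) + hc p

/-- Bound for the derived length in the powerful case. -/
def qBound (p n : ℕ) : ℕ := p ^ (p * n * lieExp p n) + hc p + p ^ (p * n * lieExp p n)

/-- Bound for the derived length in the `p`-group case. -/
def pBound (p n : ℕ) : ℕ := (bp p ^ (p * n)).factorial + qBound p n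

/-- Bound for the derived length in Alperin's theorem. -/
def aBound (p n : ℕ) : ℕ := (p ^ (p * n)).factorial + pBound p n + hc p

end Cfsg.Agent.Helper71.Alp
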