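import Mathlib
import Cfsg.Agent.Helper71.Alp.Defs
import Cfsg.Agent.Helper29.AlpD
import Cfsg.Agent.Helper51.AlpPE1
import Cfsg.Agent.Helper24.AlpPE2
import Cfsg.Agent.Helper32.AlpPE3a
import Cfsg.Agent.Helper65.AlpQ4a
import Cfsg.Agent.Helper59.AlpB1
import Cfsg.Agent.Helper59.AlpQ6
import Cfsg.Agent.Helper37.AlpL
import Cfsg.Agent.Helper31.AlpQ5b

/-!
# Alperin's theorem (S3782): the powerful case (assembly, helper71)
-/

set_option autoImplicit false

open Cfsg.Agent.Helper71.Alp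

namespace Cfsg.Agent.Helper71.Alp

universe u

variable {G : Type u} [Group G]

theorem pwIter_le_self (p : ℕ) (X : Subgroup G) (k : ℕ) : (pw p)^[k] X ≤ X := by
  induction k with
  | zero => exact le_rfl
  | succ k ih =>
    rw [Function.iterate_succ_apply']
    exact (Cfsg.Agent.Helper65.Alp.pw_le_self p _).trans ih

variable [Finite G] {p n : ℕ}

/-- (PE3) from helper32's primed form and helper24's (PE2). -/
theorem pe3_commutator_pw_le (hp : p.Prime) (hG : IsPGroup p G) {M N : Subgroup G}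
    (hM : PE p M) (hN : PE p N) : ⁅N, pw p M⁆ ≤ pw p ⁅N, M⁆ :=
  Cfsg.Agent.Helper32.Alp.commutator_pw_le_of_PE (Cfsg.Agent.Helper24.Alp.PE.commutator hp hG hN hM)

/-- (Q4) from helper59's (B1). -/
theorem q4_relIndex_pw_le (hp : p.Prime) (φ : MulAut G) (hφ : φ ^ p = 1)
    (hfix : FixLE φ (p ^ n)) (X : Subgroup G) [X.Characteristic] (hX : PE p X) :
    (pw p X).relIndex X ≤ p ^ (p * n) := by
  haveI := Cfsg.Agent.Helper65.Alp.pw_characteristic p X
  refine Cfsg.Agent.Helper59.Alp.relIndex_le_of_exp hp φ hφ hfix X (pw p X)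
    (Cfsg.Agent.Helper65.Alp.pw_le_self p X)
    (Cfsg.Agent.Helper65.Alp.inv_of_characteristic φ X)
    (Cfsg.Agent.Helper65.Alp.inv_of_characteristic φ (pw p X)) ?_ ?_
  · exact (Subgroup.commutator_mono le_rfl le_top).trans
      (hX.2.trans (Cfsg.Agent.Helper65.Alp.pw_bp_le_pw p X))
  · intro x hx
    exact Subgroup.subset_closure ⟨x, hx, rfl⟩

theorem pwIter_char_pe (hp : p.Prime) (hG : IsPGroup p G) (X : Subgroup G)
    (hXc : X.Characteristic) (hX : PE p X) (k : ℕ) :
    ((pw p)^[k] X).Characteristic ∧ PE p ((pw p)^[k] X) := by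
  induction k with
  | zero => exact ⟨hXc, hX⟩
  | succ k ih =>
    rw [Function.iterate_succ_apply']
    haveI := ih.1
    exact ⟨Cfsg.Agent.Helper65.Alp.pw_characteristic p _, Cfsg.Agent.Helper51.Alp.PE.pw' hp hG ih.2⟩

theorem relIndex_pwIter_le (hp : p.Prime) (hG : IsPGroup p G) (φ : MulAut G) (hφ : φ ^ p = 1)
    (hfix : FixLE φ (p ^ n)) (X : Subgroup G) (hXc : X.Characteristic) (hX : PE p X) (k : ℕ) :
    ((pw p)^[k] X).relIndex X ≤ (p ^ (p * n)) ^ k := by
  induction k with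
  | zero => simp
  | succ k ih =>
    rw [Function.iterate_succ_apply']
    obtain ⟨h1, h2⟩ := pwIter_char_pe hp hG X hXc hX k
    haveI := h1
    have h3 := q4_relIndex_pw_le hp φ hφ hfix ((pw p)^[k] X) h2
    have h4 : pw p ((pw p)^[k] X) ≤ (pw p)^[k] X := Cfsg.Agent.Helper65.Alp.pw_le_self _ _
    have h5 : (pw p)^[k] X ≤ X := pwIter_le_self p X k
    rw [← Subgroup.relIndex_mul_relIndex _ _ _ h4 h5, pow_succ, mul_comm]
    exact Nat.mul_le_mul ih h3

theorem pe_lowerCentralSeries (hp : p.Prime) (hG : IsPGroup p G) (H : Subgroup G) (hH : PE p H)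
    (k : ℕ) : PE p (H.lowerCentralSeries k) := by
  induction k with
  | zero => exact hH
  | succ k ih =>
    rw [Subgroup.lowerCentralSeries_succ]
    exact Cfsg.Agent.Helper24.Alp.PE.commutator hp hG ih hH

theorem commutator_pwIter_le (hp : p.Prime) (hG : IsPGroup p G) (T : Subgroup G) (hT : PE p T)
    (hpow : PE p (⊤ : Subgroup G)) (i : ℕ) :
    ⁅T, (pw p)^[i] (⊤ : Subgroup G)⁆ ≤ (pw p)^[i + 1] T := by
  induction i with
  | zero =>
    exact hT.2.trans (Cfsg.Agent.Helper65.Alp.pw_bp_le_pw p T)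
  | succ i ih =>
    have h1 : PE p ((pw p)^[i] (⊤ : Subgroup G)) :=
      (pwIter_char_pe hp hG ⊤ inferInstance hpow i).2
    have h2 := pe3_commutator_pw_le hp hG h1 hT
    rw [Function.iterate_succ_apply' (pw p) i, Function.iterate_succ_apply' (pw p) (i + 1)]
    exact h2.trans (Cfsg.Agent.Helper65.Alp.pw_mono p ih)

/-- (Q5) from helper31's primed form and helper37's (L). -/
theorem q5_pow_mem_lcs_succ_of_char (hp : p.Prime) (hG : IsPGroup p G) (φ : MulAut G)
    (hφ : φ ^ p = 1) (hfix : FixLE φ (p ^ n)) (H : Subgroup G) [H.Characteristic] :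
    ∀ y ∈ H.lowerCentralSeries (hc p),
      y ^ p ^ lieExp p n ∈ H.lowerCentralSeries (hc p + 1) :=
  Cfsg.Agent.Helper31.Alp.pow_mem_lcs_succ_of_char_of hp hG φ hφ hfix H
    (fun K _ _ hK ψ hψ hψfix => Cfsg.Agent.Helper37.Alp.pow_mem_lcs_succ hp hK ψ hψ hψfix)

/-- (Q) the powerful case. -/
theorem derivedSeries_eq_bot_of_powerful (hp : p.Prime) (hG : IsPGroup p G) (φ : MulAut G)
    (hφ : φ ^ p = 1) (hfix : FixLE φ (p ^ n)) (hpow : PE p (⊤ : Subgroup G)) :
    derivedSeries G (qBound p n) = ⊥ := by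
  haveI : Fact p.Prime := ⟨hp⟩
  haveI hnil : Group.IsNilpotent G := hG.isNilpotent
  haveI hsol : Group.IsSolvable G := inferInstance
  set N := lieExp p n with hN
  set c := hc p with hcdef
  set H : Subgroup G := (pw p)^[N] ⊤ with hH
  obtain ⟨hHc, hHpe⟩ := pwIter_char_pe hp hG ⊤ inferInstance hpow N
  haveI := hHc
  set T : Subgroup G := H.lowerCentralSeries c with hT
  have hTc : T.Characteristic := inferInstance
  have hTpe : PE p T := pe_lowerCentralSeries hp hG H hHpe c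
  set D : Subgroup G := H.lowerCentralSeries (c + 1) with hD
  have hDT : D ≤ T := Subgroup.lowerCentralSeries_antitone H (Nat.le_succ c)
  have hTH : T ≤ H := Subgroup.lowerCentralSeries_le_self H c
  have hDeq : D = ⁅T, H⁆ := Subgroup.lowerCentralSeries_succ H c
  have hTT : ⁅T, T⁆ ≤ D := by
    rw [hDeq]
    exact Subgroup.commutator_mono le_rfl hTH
  -- Step A
  have hA : (pw p)^[N] T ≤ D :=
    Cfsg.Agent.Helper59.Alp.pwIter_le_of_pow_mem T D hDT hTT N (q5_pow_mem_lcs_succ_of_char hp hG φ hφ hfix H)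
  -- Step B
  have hB : D ≤ (pw p)^[N + 1] T := by
    rw [hDeq]
    exact commutator_pwIter_le hp hG T hTpe hpow N
  -- Step C
  have hC : (pw p)^[N] T = ⊥ := by
    apply Cfsg.Agent.Helper59.Alp.eq_bot_of_le_pw hp hG
    rw [← Function.iterate_succ_apply' (pw p) N]
    exact hA.trans hB
  -- Step D
  have hcardT : Nat.card T ≤ (p ^ (p * n)) ^ N := by
    have h := relIndex_pwIter_le hp hG φ hφ hfix T hTc hTpe N
    rw [hC, Subgroup.relIndex_bot_left] at h
    exact h
  -- Step E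
  have hidxH : H.index ≤ (p ^ (p * n)) ^ N := by
    have h := relIndex_pwIter_le hp hG φ hφ hfix ⊤ inferInstance hpow N
    rw [Subgroup.relIndex_top_right] at h
    exact h
  have hpowN : (p ^ (p * n)) ^ N = p ^ (p * n * N) := (pow_mul p (p * n) N).symm
  rw [hpowN] at hcardT hidxH
  -- Step F
  haveI : H.Normal := inferInstance
  have h1 : dser (⊤ : Subgroup G) (p ^ (p * n * N)) ≤ H := Cfsg.Agent.Helper29.Alp.dser_top_le_of_index_le H hidxH
  have h2 : dser H c ≤ T := Cfsg.Agent.Helper29.Alp.dser_le_lowerCentralSeries H c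
  have h3 : dser T (p ^ (p * n * N)) = ⊥ := Cfsg.Agent.Helper29.Alp.dser_eq_bot_of_card_le T hcardT
  have h4 : dser (⊤ : Subgroup G) (p ^ (p * n * N) + c + p ^ (p * n * N)) = ⊥ := by
    rw [← Cfsg.Agent.Helper29.Alp.dser_add, ← Cfsg.Agent.Helper29.Alp.dser_add, eq_bot_iff, ← h3]
    exact Cfsg.Agent.Helper29.Alp.dser_mono ((Cfsg.Agent.Helper29.Alp.dser_mono h1 c).trans h2) _
  rw [← Cfsg.Agent.Helper29.Alp.dser_top]
  exact h4

end Cfsg.Agent.Helper71.Alp
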