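import Mathlib
import Cfsg.Agent.Helper71.Alp.QAsm
import Cfsg.Agent.Helper10.AlpCaMain
import Cfsg.Agent.Helper50.AlpCc
import Cfsg.Agent.Helper53.AlpA1

/-!
# Alperin's theorem (S3782): the `p`-group case (assembly, helper71)
-/

set_option autoImplicit false

open Cfsg.Agent.Helper71.Alp

namespace Cfsg.Agent.Helper71.Alp

universe u

theorem map_pw {G H : Type*} [Group G] [Group H] (f : G →* H) (k : ℕ) (X : Subgroup G) :
    (pw k X).map f = pw k (X.map f) := by
  unfold pw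
  rw [MonoidHom.map_closure]
  congr 1
  ext y
  constructor
  · rintro ⟨z, ⟨x, hx, rfl⟩, rfl⟩
    exact ⟨f x, Subgroup.mem_map_of_mem f hx, map_pow f x k⟩
  · rintro ⟨z, ⟨x, hx, rfl⟩, rfl⟩
    exact ⟨x ^ k, ⟨x, hx, rfl⟩, map_pow f x k⟩

theorem pe_top_subtype {G : Type*} [Group G] (p : ℕ) (W : Subgroup G)
    (h : ⁅W, W⁆ ≤ pw (bp p) W) : PE p (⊤ : Subgroup W) := by
  refine ⟨inferInstance, ?_⟩
  rw [← Subgroup.map_le_map_iff_of_injective W.subtype_injective, Subgroup.map_commutator,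
    map_pw, ← MonoidHom.range_eq_map, Subgroup.range_subtype]
  exact h

variable {G : Type u} [Group G] [Finite G] {p n : ℕ}

/-- (P) the `p`-group case. -/
theorem derivedSeries_eq_bot_of_isPGroup (hp : p.Prime) (hG : IsPGroup p G) (φ : MulAut G)
    (hφ : φ ^ p = 1) (hfix : FixLE φ (p ^ n)) : derivedSeries G (pBound p n) = ⊥ := by
  haveI : Fact p.Prime := ⟨hp⟩
  haveI hnil : Group.IsNilpotent G := hG.isNilpotent
  haveI hsol : Group.IsSolvable G := inferInstance
  set M₀ := (bp p ^ (p * n)).factorial with hM₀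
  let 𝒞 : Set (Subgroup G) := {C | C.Normal ∧ Inv φ C ∧ C.index ≤ M₀}
  set W : Subgroup G := ⨅ C : 𝒞, (C : Subgroup G) with hW
  haveI hWn : W.Normal := Subgroup.normal_iInf_normal (fun C => C.2.1)
  have hWinv : Inv φ W := by
    intro x
    rw [hW, Subgroup.mem_iInf, Subgroup.mem_iInf]
    exact forall_congr' (fun C => C.2.2.1 x)
  have hdW : dser (⊤ : Subgroup G) M₀ ≤ W := by
    rw [hW]
    refine le_iInf (fun C => ?_)
    haveI := C.2.1
    exact Cfsg.Agent.Helper29.Alp.dser_top_le_of_index_le (C : Subgroup G) C.2.2.2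
  have hcen : ∀ X Y : Subgroup G, Sec p φ X Y → ∀ w ∈ W, ∀ x ∈ X, x * w * x⁻¹ * w⁻¹ ∈ Y := by
    intro X Y hXY w hw x hx
    obtain ⟨C, hCn, hCi, hCidx, hC⟩ := Cfsg.Agent.Helper10.Alp.exists_cent_of_sec hp φ hφ hfix X Y hXY
    have hwC : w ∈ C := by
      rw [hW, Subgroup.mem_iInf] at hw
      exact hw ⟨C, hCn, hCi, hCidx⟩
    exact hC w hwC x hx
  have hWpow : ⁅W, W⁆ ≤ pw (bp p) W := Cfsg.Agent.Helper50.Alp.commutator_le_pw_of_cent hp hG φ hφ W hWinv hcen
  -- pass to the group `W`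
  have hψ : (resAut φ W hWinv) ^ p = 1 := by
    ext x
    have h1 : ∀ k : ℕ, (((resAut φ W hWinv) ^ k) x : G) = (φ ^ k) (x : G) := by
      intro k
      induction k with
      | zero => rfl
      | succ k ih =>
        rw [pow_succ', MulAut.mul_apply, resAut_coe, ih, pow_succ', MulAut.mul_apply]
    rw [h1, hφ]
    rfl
  have hQ := derivedSeries_eq_bot_of_powerful (G := W) hp (hG.to_subgroup W) (resAut φ W hWinv) hψ
    (Cfsg.Agent.Helper53.Alp.fixLE_resAut φ W hWinv _ hfix) (pe_top_subtype p W hWpow)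
  have hdser : dser W (qBound p n) = ⊥ := by
    rw [← Cfsg.Agent.Helper29.Alp.map_derivedSeries_subtype, hQ, Subgroup.map_bot]
  have h4 : dser (⊤ : Subgroup G) (M₀ + qBound p n) = ⊥ := by
    rw [← Cfsg.Agent.Helper29.Alp.dser_add, eq_bot_iff, ← hdser]
    exact Cfsg.Agent.Helper29.Alp.dser_mono hdW _
  rw [← Cfsg.Agent.Helper29.Alp.dser_top]
  exact h4

end Cfsg.Agent.Helper71.Alp
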