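import Mathlib
import Cfsg.Agent.Helper71.Alp.PAsm
import Cfsg.Agent.Helper63.AlpT1
import Cfsg.Agent.Helper63.AlpT2x
import Cfsg.Agent.Helper22.PComponent
import Cfsg.Agent.Lib.Cores

/-!
# Alperin's theorem (S3782): final assembly (helper71)
-/

set_option autoImplicit false

open Cfsg.Agent.Helper71.Alp

namespace Cfsg.Agent.Helper71.Alp

universe u

variable {G : Type u} [Group G] [Finite G] {p n : ℕ}

/-- (T3) Alperin's theorem with an explicit bound. -/
theorem alperin (hp : p.Prime) [Group.IsSolvable G] (φ : MulAut G) (hφ : orderOf φ = p)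
    (hfix : Nat.card {g : G // φ g = g} = p ^ n) : derivedSeries G (aBound p n) = ⊥ := by
  haveI : Fact p.Prime := ⟨hp⟩
  have hφp : φ ^ p = 1 := by rw [← hφ]; exact pow_orderOf_eq_one φ
  have hfixLE : FixLE φ (p ^ n) := le_of_eq hfix
  set K : Subgroup G := Cfsg.pPrimeCore p G with hK
  haveI hKc : K.Characteristic := Cfsg.Agent.Lib.pPrimeCore_characteristic p
  haveI hKn : K.Normal := inferInstance
  have hKinv : Inv φ K := Cfsg.Agent.Helper65.Alp.inv_of_characteristic φ K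
  obtain ⟨ψ, hψp, hψfix, -⟩ := Cfsg.Agent.Helper53.Alp.exists_quotient_aut φ hφp hfixLE K hKinv
  have hbot : Cfsg.pPrimeCore p (G ⧸ K) = ⊥ := Cfsg.Agent.Helper22.pPrimeCore_quotient_eq_bot p
  have h1 := Cfsg.Agent.Helper63.Alp.derivedSeries_eq_bot_of_pPrimeCore_eq_bot_of_P hp ψ hψp hψfix hbot
    (fun H hH χ hχ hχfix => derivedSeries_eq_bot_of_isPGroup hp hH χ hχ hχfix)
  set M := (p ^ (p * n)).factorial + pBound p n with hM
  have h2 : derivedSeries G M ≤ K := by
    have h3 := map_derivedSeries_le_derivedSeries (QuotientGroup.mk' K) M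
    rw [h1, le_bot_iff] at h3
    rw [← QuotientGroup.ker_mk' K]
    exact (Subgroup.map_eq_bot_iff _).mp h3
  have h4 : dser K (hc p) = ⊥ := Cfsg.Agent.Helper63.Alp.dser_pPrimeCore_eq_bot hp φ hφ hfix
  have h5 : dser (⊤ : Subgroup G) (M + hc p) = ⊥ := by
    rw [← Cfsg.Agent.Helper29.Alp.dser_add, eq_bot_iff, ← h4]
    refine Cfsg.Agent.Helper29.Alp.dser_mono ?_ _
    rw [Cfsg.Agent.Helper29.Alp.dser_top]
    exact h2
  rw [← Cfsg.Agent.Helper29.Alp.dser_top]
  exact h5

end Cfsg.Agent.Helper71.Alp
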